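import Cfsg.Agent.Lib.CosetEnum.SuzG24Pts.Data
import Cfsg.Agent.Lib.CosetEnum.SuzG24.Data
import Cfsg.Agent.Lib.CosetEnum.Restrict
import Cfsg.Agent.Lib.CosetEnum.G2Lines

/-! Generated certificate. -/

set_option autoImplicit false
set_option maxRecDepth 20000

namespace Cfsg.Lib.CosetEnum.SuzG24Pts

theorem lines3 : G2Lines.linesOK tabB tabC tabCoef 1365 300 900 = true := by
  decide +kernel

theorem lines4 : G2Lines.linesOK tabB tabC tabCoef 1365 165 1200 = true := by
  decide +kernel

end Cfsg.Lib.CosetEnum.SuzG24Pts
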