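import Cfsg.Agent.Lib.CosetEnum.SuzG24Pts.Data
import Cfsg.Agent.Lib.CosetEnum.SuzG24.Data
import Cfsg.Agent.Lib.CosetEnum.Restrict
import Cfsg.Agent.Lib.CosetEnum.G2Lines
import Cfsg.Agent.Lib.CosetEnum.SuzG24Pts.Lines0
import Cfsg.Agent.Lib.CosetEnum.SuzG24Pts.Lines1

/-! Generated certificate. -/

set_option autoImplicit false
set_option maxRecDepth 20000

namespace Cfsg.Lib.CosetEnum.SuzG24Pts

theorem restrict_ok : restrictOK SuzG24.tabP SuzG24.orb1 tabQ 7 6 1365 SuzG24.subWords 1365 0 = true := by
  decide +kernel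

theorem permC_ok : permOK tabC 48 1365 [] 1365 0 = true := by
  decide +kernel

theorem basis_ok : G2Lines.basisOK tabB 1365 0 = true := by
  decide +kernel

theorem sort_ok : G2Lines.sortOK tabB tabOrder tabRank 1365 1365 0 = true := by
  decide +kernel

theorem words_ok : ((List.range 1365).all fun p => (List.range 6).all fun t =>
    Nat.beq (twalk tabC 48 (rootWords.getD t []) p) (img tabQ 6 t p)) = true := by
  decide +kernel

theorem move_ok : (List.range 1365).any (fun p => !(Nat.beq (img tabC 48 29 p) p)) = true := by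
  decide +kernel

theorem lines_ok : G2Lines.linesOK tabB tabC tabCoef 1365 1365 0 = true :=
  (G2Lines.linesOK_append (a := 600) (b := 765) (G2Lines.linesOK_append (a := 300) (b := 300) lines0 lines1) (G2Lines.linesOK_append (a := 300) (b := 465) lines2 (G2Lines.linesOK_append (a := 300) (b := 165) lines3 lines4)))

end Cfsg.Lib.CosetEnum.SuzG24Pts
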