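import Cfsg.Agent.Lib.CosetEnum.Defs

/-! Generated table data. -/

set_option autoImplicit false
set_option maxRecDepth 20000

namespace Cfsg.Lib.CosetEnum.SuzG24Pts

/-- Table data. -/
def orb2_0_0 : Tab :=
  (.leaf 0x36600002800001000046600002400003000043c00001c00002000037900001c00001000047000001400003000003e0000140000100000260000100000100003c200000c00003000001400000800001000005300000800000000001e00000400001000000d00000400000000003500000000001000000700000000000000000300000000000)

/-- Table data. -/
def orb2_0 : Tab :=
  orb2_0_0

end Cfsg.Lib.CosetEnum.SuzG24Pts
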