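import Cfsg.Agent.Lib.CosetEnum.Defs

/-! Generated table data. -/

set_option autoImplicit false
set_option maxRecDepth 20000

namespace Cfsg.Lib.CosetEnum.SuzG24Pts

/-- Table data. -/
def orb3_0_0 : Tab :=
  (.leaf 0x43c0000080000000003c200000400001000000d00000000000000000700000000000)

/-- Table data. -/
def orb3_0 : Tab :=
  orb3_0_0

end Cfsg.Lib.CosetEnum.SuzG24Pts
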