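import Cfsg.Agent.Lib.CosetEnum.SuzG24Pts.TabQ_Data0
import Cfsg.Agent.Lib.CosetEnum.SuzG24Pts.TabB_Data0
import Cfsg.Agent.Lib.CosetEnum.SuzG24Pts.TabC_Data0
import Cfsg.Agent.Lib.CosetEnum.SuzG24Pts.TabCoef_Data0
import Cfsg.Agent.Lib.CosetEnum.SuzG24Pts.TabRank_Data0
import Cfsg.Agent.Lib.CosetEnum.SuzG24Pts.TabOrder_Data0
import Cfsg.Agent.Lib.CosetEnum.SuzG24Pts.Orb0_Data0
import Cfsg.Agent.Lib.CosetEnum.SuzG24Pts.Pos0_Data0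
import Cfsg.Agent.Lib.CosetEnum.SuzG24Pts.Orb1_Data0
import Cfsg.Agent.Lib.CosetEnum.SuzG24Pts.Pos1_Data0
import Cfsg.Agent.Lib.CosetEnum.SuzG24Pts.Orb2_Data0
import Cfsg.Agent.Lib.CosetEnum.SuzG24Pts.Pos2_Data0
import Cfsg.Agent.Lib.CosetEnum.SuzG24Pts.Orb3_Data0
import Cfsg.Agent.Lib.CosetEnum.SuzG24Pts.Pos3_Data0
import Cfsg.Agent.Lib.CosetEnum.SuzG24Pts.Orb4_Data0
import Cfsg.Agent.Lib.CosetEnum.SuzG24Pts.Pos4_Data0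

/-! Generated certificate. -/

set_option autoImplicit false
set_option maxRecDepth 20000

namespace Cfsg.Lib.CosetEnum.SuzG24Pts

/-- Table. -/
def tabQ : Tab :=
  tabQ_0

/-- Table. -/
def tabB : Tab :=
  tabB_0

/-- Table. -/
def tabC : Tab :=
  tabC_0

/-- Table. -/
def tabCoef : Tab :=
  tabCoef_0

/-- Table. -/
def tabRank : Tab :=
  tabRank_0

/-- Table. -/
def tabOrder : Tab :=
  tabOrder_0

/-- The subgroup generators as words in root letters. -/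
def rootWords : List (List Nat) :=
  [[41],
    [3, 45, 14, 11, 38, 35, 2],
    [21],
    [35, 42],
    [30, 14, 37],
    [43]]

/-- Table. -/
def orb0 : Tab :=
  orb0_0

/-- Table. -/
def pos0 : Tab :=
  pos0_0

/-- Generators of a level. -/
def words0 : List (List Nat) :=
  [[0],
    [1],
    [2],
    [3],
    [4],
    [5],
    [3, 5, 4, 0, 4, 0, 3],
    [4, 3, 5, 0],
    [1, 2, 1, 2, 1],
    [4, 5, 0, 4, 0, 4, 5, 3],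
    [4, 3, 4, 1, 2, 5, 0, 2, 1, 0, 1, 0, 5, 3, 4],
    [2, 1, 2, 0, 1, 0, 3, 2, 1, 5, 2, 3, 2, 1, 0, 5, 3, 4, 1, 2, 1, 2, 1, 0, 5, 3, 4, 1, 0, 1, 2, 0, 5, 2, 1, 4, 3, 4, 1, 2, 1, 2, 1, 4, 3, 5, 0, 1, 0, 1, 2, 0, 5, 2, 1, 4, 3, 4]]

/-- A level of a base. -/
def level0 : BaseLevel :=
  ⟨orb0, pos0, 1365, words0⟩

/-- Table. -/
def orb1 : Tab :=
  orb1_0

/-- Table. -/
def pos1 : Tab :=
  pos1_0

/-- Generators of a level. -/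
def words1 : List (List Nat) :=
  [[3, 5, 4, 0, 4, 0, 3],
    [4, 3, 5, 0],
    [1, 2, 1, 2, 1],
    [4, 5, 0, 4, 0, 4, 5, 3],
    [4, 3, 4, 1, 2, 5, 0, 2, 1, 0, 1, 0, 5, 3, 4],
    [4],
    [2, 1, 2, 0, 1, 0, 3, 2, 1, 5, 2, 3, 2, 1, 0, 5, 3, 4, 1, 2, 1, 2, 1, 0, 5, 3, 4, 1, 0, 1, 2, 0, 5, 2, 1, 4, 3, 4, 1, 2, 1, 2, 1, 4, 3, 5, 0, 1, 0, 1, 2, 0, 5, 2, 1, 4, 3, 4]]

/-- A level of a base. -/
def level1 : BaseLevel :=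
  ⟨orb1, pos1, 1024, words1⟩

/-- Table. -/
def orb2 : Tab :=
  orb2_0

/-- Table. -/
def pos2 : Tab :=
  pos2_0

/-- Generators of a level. -/
def words2 : List (List Nat) :=
  [[4, 5, 0, 4, 0, 4, 5, 3],
    [4, 3, 4, 1, 2, 5, 0, 2, 1, 0, 1, 0, 5, 3, 4],
    [4],
    [2, 1, 2, 0, 1, 0, 3, 2, 1, 5, 2, 3, 2, 1, 0, 5, 3, 4, 1, 2, 1, 2, 1, 0, 5, 3, 4, 1, 0, 1, 2, 0, 5, 2, 1, 4, 3, 4, 1, 2, 1, 2, 1, 4, 3, 5, 0, 1, 0, 1, 2, 0, 5, 2, 1, 4, 3, 4]]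

/-- A level of a base. -/
def level2 : BaseLevel :=
  ⟨orb2, pos2, 15, words2⟩

/-- Table. -/
def orb3 : Tab :=
  orb3_0

/-- Table. -/
def pos3 : Tab :=
  pos3_0

/-- Generators of a level. -/
def words3 : List (List Nat) :=
  [[4],
    [2, 1, 2, 0, 1, 0, 3, 2, 1, 5, 2, 3, 2, 1, 0, 5, 3, 4, 1, 2, 1, 2, 1, 0, 5, 3, 4, 1, 0, 1, 2, 0, 5, 2, 1, 4, 3, 4, 1, 2, 1, 2, 1, 4, 3, 5, 0, 1, 0, 1, 2, 0, 5, 2, 1, 4, 3, 4]]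

/-- A level of a base. -/
def level3 : BaseLevel :=
  ⟨orb3, pos3, 4, words3⟩

/-- Table. -/
def orb4 : Tab :=
  orb4_0

/-- Table. -/
def pos4 : Tab :=
  pos4_0

/-- Generators of a level. -/
def words4 : List (List Nat) :=
  [[2, 1, 2, 0, 1, 0, 3, 2, 1, 5, 2, 3, 2, 1, 0, 5, 3, 4, 1, 2, 1, 2, 1, 0, 5, 3, 4, 1, 0, 1, 2, 0, 5, 2, 1, 4, 3, 4, 1, 2, 1, 2, 1, 4, 3, 5, 0, 1, 0, 1, 2, 0, 5, 2, 1, 4, 3, 4]]

/-- A level of a base. -/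
def level4 : BaseLevel :=
  ⟨orb4, pos4, 3, words4⟩

end Cfsg.Lib.CosetEnum.SuzG24Pts
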