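import Cfsg.Agent.Lib.CosetEnum.SuzG24Pts.Data

/-! Generated certificate. -/

set_option autoImplicit false
set_option maxRecDepth 20000

namespace Cfsg.Lib.CosetEnum.SuzG24Pts

theorem permQ_ok : permOK tabQ 6 1365 [] 1365 0 = true := by
  decide +kernel

theorem orbit0_ok : orbitOK tabQ orb0 pos0 6 1365 1365 words0 1365 0 = true := by
  decide +kernel

theorem nest0_ok : nestOK tabQ 6 level0 words1 = true := by
  decide +kernel

theorem orbit1_ok : orbitOK tabQ orb1 pos1 6 1365 1024 words1 1024 0 = true := by
  decide +kernel

theorem nest1_ok : nestOK tabQ 6 level1 words2 = true := by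
  decide +kernel

theorem orbit2_ok : orbitOK tabQ orb2 pos2 6 1365 15 words2 15 0 = true := by
  decide +kernel

theorem nest2_ok : nestOK tabQ 6 level2 words3 = true := by
  decide +kernel

theorem orbit3_ok : orbitOK tabQ orb3 pos3 6 1365 4 words3 4 0 = true := by
  decide +kernel

theorem nest3_ok : nestOK tabQ 6 level3 words4 = true := by
  decide +kernel

theorem orbit4_ok : orbitOK tabQ orb4 pos4 6 1365 3 words4 3 0 = true := by
  decide +kernel

theorem nest4_ok : nestOK tabQ 6 level4 [] = true := by
  decide +kernel

end Cfsg.Lib.CosetEnum.SuzG24Pts
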